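import Groth.Agent.OmegaAffLib.Ideal
import Groth.Agent.IdealStalkLib.Comap
import Groth.Agent.ParaFLib.ExtendMain
import Groth.Agent.AmpleEmb.ComposeRel

/-!
# The canonical section of the inverse of an invertible ideal
-/

set_option autoImplicit false
set_option backward.isDefEq.respectTransparency false
set_option backward.isDefEq.respectTransparency.types false
set_option linter.style.haveILetI false
set_option maxHeartbeats 1600000

universe u

open CategoryTheory CategoryTheory.Limits AlgebraicGeometry TopologicalSpace Opposite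
open Groth.Agent.PullbackMod Groth.Agent.ParaFLib Groth.Agent.DCohLib

noncomputable section

namespace Groth.Agent.AbelMapLib

variable {Y : Scheme.{u}} (K : Y.IdealSheafData)

/-- `s` is the canonical section of `L`, the inverse of the ideal. -/
def IsCanSect (L : Y.Modules) (s : Γ(L, ⊤)) : Prop :=
  ∀ y : Y, ∃ (W : Y.affineOpens) (_ : y ∈ W.1) (l : Γ(L, W.1)) (a : Γ(Y, W.1)), Gen W.1 l ∧
    K.ideal W = Ideal.span {a} ∧ L.presheaf.map (homOfLE le_top).op s = a • l

theorem exists_canSect {L : Y.Modules} (hL : PicF.IsInvertible L) (hK : PicF.IsInvertible (ClSub.idealMod K))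
    (e : CohB1.tensorMod L (ClSub.idealMod K) ≅ Coh.structureModule Y) :
    ∃ s : Γ(L, ⊤), IsCanSect K L s := by
  let J := ClSub.idealMod K
  have hloc : ∀ y : Y, ∃ W : Y.affineOpens, y ∈ W.1 ∧ ∃ (l : Γ(L, W.1)) (j : Γ(J, W.1)), Gen W.1 l ∧ Gen W.1 j := by
    intro y
    obtain ⟨U, l, hyU, hl⟩ := ParaFLib.exists_gen_nhd hL y
    obtain ⟨U', j, hyU', hj⟩ := ParaFLib.exists_gen_nhd hK y
    obtain ⟨_, ⟨W : Y.Opens, (hW : IsAffineOpen W), rfl⟩, hyW, hle⟩ :=
      Y.isBasis_affineOpens.exists_subset_of_mem_open (a := y) (show y ∈ U ⊓ U' from ⟨hyU, hyU'⟩) (U ⊓ U').2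
    exact ⟨⟨W, hW⟩, hyW, _, _, hl.res (fun z hz => (hle hz).1), hj.res (fun z hz => (hle hz).2)⟩
  choose W hyW l j hl hj using hloc
  let u : ∀ y, Γ(Y, (W y).1) := fun y => e.hom.app _ (pairS L J (l y) (j y))
  have hu : ∀ y, IsUnit (u y) := fun y => by
    have hg : Gen (L := Coh.structureModule Y) (W y).1 (u y) :=
      gen_of_modIso e (AmpleLib.gen_pairS (hl y) (hj y))
    obtain ⟨r, hr⟩ := (hg (W y).1 le_rfl).2 (1 : Γ(Y, (W y).1))
    refine IsUnit.of_mul_eq_one r (Eq.trans ?_ hr)
    rw [ParaFLib.res_self]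
    exact mul_comm _ _
  let loc : ∀ y, Γ(L, (W y).1) := fun y => (↑(hu y).unit⁻¹ * OmegaSh.idealSect K _ (j y)) • l y
  let F : TopCat.Sheaf Ab Y := ⟨L.presheaf, L.isSheaf⟩
  obtain ⟨s, hs, -⟩ := F.existsUnique_gluing' (fun y => (W y).1) ⊤
    (fun y => homOfLE le_top) (fun y _ => Opens.mem_iSup.2 ⟨y, hyW y⟩) loc (fun x y => by
      let O := (W x).1 ⊓ (W y).1
      obtain ⟨α, hα, hαe⟩ := ((hl x).res (inf_le_left : O ≤ _)).exists_unit ((hl y).res (inf_le_right : O ≤ _))
      obtain ⟨β, hβ, hβe⟩ := ((hj x).res (inf_le_left : O ≤ _)).exists_unit ((hj y).res (inf_le_right : O ≤ _))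
      have eu : Y.presheaf.map (homOfLE (inf_le_left : O ≤ _)).op (u x) =
          α * β * Y.presheaf.map (homOfLE (inf_le_right : O ≤ _)).op (u y) := by
        show (Coh.structureModule Y).presheaf.map _ (u x) = _
        refine (DCohLib.app_natural e.hom (inf_le_left : O ≤ _) _).symm.trans ?_
        refine (congrArg (e.hom.app O) (res_pairS (inf_le_left : O ≤ _) (l x) (j x))).trans ?_
        rw [← hαe, ← hβe, pairS_smul_left, pairS_smul_right, smul_smul]
        refine (Scheme.Modules.Hom.app_smul e.hom _ _).trans ?_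
        refine (congrArg (fun m => (α * β) • e.hom.app O m) (res_pairS (inf_le_right : O ≤ _) (l y) (j y)).symm).trans ?_
        exact congrArg (fun m : Γ(Coh.structureModule Y, O) => (α * β) • m) (DCohLib.app_natural e.hom (inf_le_right : O ≤ _) _)
      have ea : Y.presheaf.map (homOfLE (inf_le_left : O ≤ _)).op (OmegaSh.idealSect K _ (j x)) =
          β * Y.presheaf.map (homOfLE (inf_le_right : O ≤ _)).op (OmegaSh.idealSect K _ (j y)) := by
        refine (DCohLib.app_natural (ClSub.idealModι K) (inf_le_left : O ≤ _) _).symm.trans ?_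
        rw [← hβe]
        refine (OmegaAffLib.idealSect_smul K O β _).trans ?_
        exact congrArg (β * ·) (DCohLib.app_natural (ClSub.idealModι K) (inf_le_right : O ≤ _) _)
      show L.presheaf.map (homOfLE inf_le_left).op (loc x) = L.presheaf.map (homOfLE inf_le_right).op (loc y)
      simp only [loc, L.map_smul, map_mul, ← hαe, smul_smul]
      congr 1
      have hx1 : Y.presheaf.map (homOfLE (inf_le_left : O ≤ _)).op ↑(hu x).unit⁻¹ *
          Y.presheaf.map (homOfLE (inf_le_left : O ≤ _)).op (u x) = 1 := by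
        rw [← map_mul, IsUnit.val_inv_mul, map_one]
      have hy1 : Y.presheaf.map (homOfLE (inf_le_right : O ≤ _)).op ↑(hu y).unit⁻¹ *
          Y.presheaf.map (homOfLE (inf_le_right : O ≤ _)).op (u y) = 1 := by
        rw [← map_mul, IsUnit.val_inv_mul, map_one]
      rw [eu] at hx1
      linear_combination (Y.presheaf.map (homOfLE (inf_le_left : O ≤ _)).op ↑(hu x).unit⁻¹ * α) * ea -
        (Y.presheaf.map (homOfLE (inf_le_left : O ≤ _)).op ↑(hu x).unit⁻¹ * α * β *
          Y.presheaf.map (homOfLE (inf_le_right : O ≤ _)).op (OmegaSh.idealSect K _ (j y))) * hy1 +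
        (Y.presheaf.map (homOfLE (inf_le_right : O ≤ _)).op ↑(hu y).unit⁻¹ *
          Y.presheaf.map (homOfLE (inf_le_right : O ≤ _)).op (OmegaSh.idealSect K _ (j y))) * hx1)
  refine ⟨s, fun y => ⟨W y, hyW y, l y, ↑(hu y).unit⁻¹ * OmegaSh.idealSect K _ (j y), hl y, ?_, hs y⟩⟩
  rw [Ideal.span_singleton_mul_left_unit (Units.isUnit _)]
  refine le_antisymm (fun z hz => ?_) ((Ideal.span_singleton_le_iff_mem _).2
    ((OmegaAffLib.mem_range_idealSect K (W y) _).2 ⟨_, rfl⟩))
  obtain ⟨m, rfl⟩ := (OmegaAffLib.mem_range_idealSect K (W y) z).1 hz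
  obtain ⟨r, rfl⟩ := (hj y (W y).1 le_rfl).2 m
  rw [ParaFLib.res_self, OmegaAffLib.idealSect_smul]
  exact Ideal.mem_span_singleton.2 ⟨r, mul_comm _ _⟩

/-- A morphism kills the canonical section exactly when it goes through the subscheme. -/
theorem pullMap_eq_zero_iff {L : Y.Modules} (hL : PicF.IsInvertible L) {s : Γ(L, ⊤)} (hs : IsCanSect K L s)
    {Z : Scheme.{u}} (g : Z ⟶ Y) :
    pullMap g L (le_refl (g ⁻¹ᵁ ⊤)) s = 0 ↔ ∃ k : Z ⟶ K.subscheme, k ≫ K.subschemeι = g := by
  have hloc : ∀ (W : Y.affineOpens) (l : Γ(L, W.1)) (a : Γ(Y, W.1)),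
      L.presheaf.map (homOfLE le_top).op s = a • l →
      ((Scheme.Modules.pullback g).obj L).presheaf.map (homOfLE (g.preimage_mono le_top)).op
        (pullMap g L (le_refl (g ⁻¹ᵁ ⊤)) s) = g.app W.1 a • pullMap g L le_rfl l := fun W l a ha => by
    rw [pullMap_res g L le_rfl (le_top : W.1 ≤ ⊤) (g.preimage_mono le_top) le_rfl s, ha, pullMap_smul,
      Scheme.Hom.app_eq_appLE]
  constructor
  · intro h
    have hker : K ≤ g.ker := by
      refine Scheme.IdealSheafData.le_ofIdeals_iff.2 fun U a ha => ?_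
      rw [RingHom.mem_ker]
      refine TopCat.Presheaf.section_ext Z.sheaf (g ⁻¹ᵁ U.1) _ _ fun z hz => ?_
      show Z.presheaf.germ (g ⁻¹ᵁ U.1) z hz (g.app U.1 a) = Z.presheaf.germ (g ⁻¹ᵁ U.1) z hz 0
      rw [map_zero, ← Scheme.Hom.germ_stalkMap_apply]
      obtain ⟨W, hW, l, b, hl, hb, hsb⟩ := hs (g z)
      have h1 : g.app W.1 b = 0 := by
        have h2 := hloc W l b hsb
        rw [h, map_zero] at h2
        have h3 := (AmpleEmb.gen_pullMap g hL hl) (g ⁻¹ᵁ W.1) le_rfl
        refine h3.1 ?_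
        show _ • _ = _ • _
        rw [ParaFLib.res_self, zero_smul]
        exact h2.symm
      have hmem : Y.presheaf.germ U.1 (g z) hz a ∈ IntMult.stalkIdeal K (g z) := by
        rw [IdealStalkLib.stalkIdeal_eq K U _ hz]
        exact Ideal.mem_map_of_mem _ ha
      rw [IdealStalkLib.stalkIdeal_eq K W _ hW, hb, Ideal.map_span, Set.image_singleton] at hmem
      obtain ⟨c, hc⟩ := Ideal.mem_span_singleton.1 hmem
      refine (congrArg (g.stalkMap z) hc).trans ?_
      rw [map_mul]
      erw [Scheme.Hom.germ_stalkMap_apply g W.1 z hW b]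
      rw [h1, map_zero, zero_mul]
    exact ⟨IsClosedImmersion.lift K.subschemeι g (by rwa [Scheme.IdealSheafData.ker_subschemeι]),
      IsClosedImmersion.lift_fac _ _ _⟩
  · rintro ⟨k, rfl⟩
    let g := k ≫ K.subschemeι
    let F : TopCat.Sheaf Ab Z :=
      ⟨((Scheme.Modules.pullback g).obj L).presheaf, ((Scheme.Modules.pullback g).obj L).isSheaf⟩
    refine F.eq_of_locally_eq' (fun z : Z => g ⁻¹ᵁ (hs (g z)).choose.1) _ (fun z => homOfLE (g.preimage_mono le_top))
      (fun z _ => Opens.mem_iSup.2 ⟨z, (hs (g z)).choose_spec.choose⟩) _ _ fun z => ?_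
    obtain ⟨l, b, hl, hb, hsb⟩ := (hs (g z)).choose_spec.choose_spec
    refine (hloc _ l b hsb).trans (Eq.trans ?_ (map_zero _).symm)
    have h1 : g.app (hs (g z)).choose.1 b = 0 := by
      have hb' : b ∈ K.ideal (hs (g z)).choose := hb ▸ Ideal.mem_span_singleton_self b
      rw [← Scheme.IdealSheafData.ker_subschemeι_app, RingHom.mem_ker] at hb'
      rw [Scheme.Hom.comp_app]
      exact (congrArg (k.app _) hb').trans (map_zero _)
    rw [h1, zero_smul]

end Groth.Agent.AbelMapLib
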