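import Groth.Agent.CurveFF.CanGen
import Groth.Agent.CurveFF.RatPoint
import Groth.Agent.PullbackMod.Basic
import Groth.Agent.AmpleEmb.ComposeRel
import Groth.Agent.GenBCLib.Point

/-!
# A module with a section vanishing exactly at one rational point, on a curve of positive genus
-/

set_option autoImplicit false
set_option backward.isDefEq.respectTransparency false
set_option backward.isDefEq.respectTransparency.types false
set_option linter.style.haveILetI false
set_option maxHeartbeats 1600000

universe u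

open CategoryTheory CategoryTheory.Limits AlgebraicGeometry TopologicalSpace Opposite
open Groth.Agent.PullbackMod Groth.Agent.ParaFLib Groth.Agent.CurveFF

noncomputable section

namespace Groth.Agent.AbelMapLib

attribute [local instance] Curv2.stalkAlgebra
attribute [local instance high] FunFld.Place.algRes

theorem pullMap_res_zero {X Y : Scheme.{u}} (g : Y ⟶ X) (L : X.Modules) {W : X.Opens} (l : Γ(L, W)) (a : Γ(X, W))
    {s : Γ(L, ⊤)} (hs : L.presheaf.map (homOfLE le_top).op s = a • l)
    (hW : (⊤ : Y.Opens) ≤ g ⁻¹ᵁ W) (ha : g.appLE W ⊤ hW a = 0) : pullMap g L (fun _ _ => trivial : (⊤ : Y.Opens) ≤ g ⁻¹ᵁ ⊤) s = 0 := by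
  have h := pullMap_res g L (fun _ _ => trivial : (⊤ : Y.Opens) ≤ g ⁻¹ᵁ ⊤) (le_top : W ≤ ⊤) (le_refl _) hW s
  rw [hs, pullMap_smul, ha, zero_smul, ParaFLib.res_self] at h
  exact h

variable {k : Type u} [Field k] {X : Scheme.{u}} [X.Over (Spec (CommRingCat.of k))]
  [IsProper (X ↘ Spec (CommRingCat.of k))] [IsIntegral X] [VBLib.IsRegCurve X]
  (hdim : topologicalKrullDim X = 1) (h0 : Module.finrank k (Coh.HH X (Coh.structureModule X) 0) = 1)

include hdim h0 in
theorem finrank_H0_le_one_of_point (hg : 1 ≤ Curv2.genus k X) (p : Spec (CommRingCat.of k) ⟶ X)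
    (hp : p ≫ (X ↘ Spec (CommRingCat.of k)) = 𝟙 _) {L : X.Modules} (hL : PicF.IsInvertible L) (s : Γ(L, ⊤))
    (hzero : ∀ {Z : Scheme.{u}} (g : Z ⟶ X), pullMap g L (fun _ _ => trivial : (⊤ : Z.Opens) ≤ g ⁻¹ᵁ ⊤) s = 0 →
      g = (g ≫ (X ↘ Spec (CommRingCat.of k))) ≫ p) :
    Module.finrank k (Coh.HH X L 0) ≤ 1 := by
  let x₀ := p (IsLocalRing.closedPoint k)
  have hx₀ : IsClosed ({x₀} : Set X) := isClosed_point_of_section p hp
  haveI : Subsingleton ↥(Spec (CommRingCat.of k)) := inferInstanceAs (Subsingleton (PrimeSpectrum k))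
  -- away from the point the section generates
  have hgen : ∀ y : X, y ≠ x₀ → Function.Bijective
      fun r : X.presheaf.stalk y => r • L.presheaf.germ ⊤ y trivial s := by
    intro y hy
    obtain ⟨W₀, l₀, hyW₀, hl₀⟩ := ParaFLib.exists_gen_nhd hL y
    obtain ⟨_, ⟨W : X.Opens, (hW : IsAffineOpen W), rfl⟩, hyW, hWW⟩ :=
      X.isBasis_affineOpens.exists_subset_of_mem_open hyW₀ W₀.2
    have hl := hl₀.res (show W ≤ W₀ from hWW)
    set l := L.presheaf.map (homOfLE (show W ≤ W₀ from hWW)).op l₀
    obtain ⟨a, ha⟩ := (hl W le_rfl).2 (L.presheaf.map (homOfLE le_top).op s)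
    simp only [ParaFLib.res_self] at ha
    have hge : L.presheaf.germ ⊤ y trivial s = X.presheaf.germ W y hyW a • L.presheaf.germ W y hyW l := by
      rw [← TopCat.Presheaf.germ_res_apply L.presheaf (homOfLE (le_top : W ≤ ⊤)) y hyW s, ← ha, germ_smul']
    rw [hge]
    refine (AmpleLib.bijective_smul_iff (hl.bijective_germ y hyW) _).2 ?_
    by_contra hu
    let g := X.fromSpecResidueField y
    have hgW : (⊤ : (Spec (X.residueField y)).Opens) ≤ g ⁻¹ᵁ W := fun z _ => by
      show g z ∈ W
      rw [Scheme.fromSpecResidueField_apply]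
      exact hyW
    have h1 : g.appLE W ⊤ hgW a = 0 := by
      rw [show g.appLE W ⊤ hgW = _ from GenBCLib.appLE_fromSpecResidueField hyW hW, CommRingCat.comp_apply,
        (X.evaluation_eq_zero_iff_notMem_basicOpen y hyW a).2 (fun h => hu ((X.mem_basicOpen a y hyW).1 h)), map_zero]
    have h4 := hzero g (pullMap_res_zero g L l a ha.symm hgW h1)
    obtain ⟨z⟩ : Nonempty ↥(Spec (X.residueField y)) := inferInstance
    refine hy ?_
    have h5 := congrArg (fun φ : Spec (X.residueField y) ⟶ X => φ z) h4
    simp only [Scheme.Hom.comp_apply] at h5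
    rw [Scheme.fromSpecResidueField_apply] at h5
    rw [h5]
    exact congrArg p (Subsingleton.elim _ _)
  have hη : genericPoint X ≠ x₀ := fun h => ne_generic hdim hx₀ h.symm
  let e := L.presheaf.germ ⊤ (genericPoint X) trivial s
  have he : IsBase L e := hgen _ hη
  rw [finrank_H0_eq k hL he]
  let P := placeOf k hdim x₀ hx₀
  have hK := isFunctionField k hdim h0
  haveI := FF.finite_L hK (Finsupp.single P (1 : ℤ))
  -- near the point
  obtain ⟨W, l, hxW, hl⟩ := ParaFLib.exists_gen_nhd hL x₀
  obtain ⟨a, ha⟩ := (hl W le_rfl).2 (L.presheaf.map (homOfLE le_top).op s)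
  simp only [ParaFLib.res_self] at ha
  let a₀ := X.presheaf.germ W x₀ hxW a
  have hm : IsLocalRing.maximalIdeal (X.presheaf.stalk x₀) ≤ Ideal.span {a₀} := by
    let π := CommRingCat.ofHom (Ideal.Quotient.mk (Ideal.span {a₀}))
    let g := Spec.map π ≫ X.fromSpecStalk x₀
    have hgW : (⊤ : (Spec (CommRingCat.of (X.presheaf.stalk x₀ ⧸ Ideal.span {a₀}))).Opens) ≤ g ⁻¹ᵁ W := fun z _ => by
      show X.fromSpecStalk x₀ (Spec.map π z) ∈ W
      have h : X.fromSpecStalk x₀ (Spec.map π z) ∈ Set.range (X.fromSpecStalk x₀) := ⟨_, rfl⟩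
      rw [Scheme.range_fromSpecStalk] at h
      exact h.mem_open W.2 hxW
    have h1 : g.appLE W ⊤ hgW a = 0 := by
      simp only [g, Scheme.Hom.appLE, Scheme.Hom.comp_app, Category.assoc, CommRingCat.comp_apply]
      rw [Scheme.fromSpecStalk_app hxW]
      simp only [CommRingCat.comp_apply]
      refine Eq.trans ?_ (map_zero ((Scheme.ΓSpecIso (CommRingCat.of (X.presheaf.stalk x₀ ⧸ Ideal.span {a₀}))).inv.hom))
      rw [← Ideal.Quotient.eq_zero_iff_mem.2 (Ideal.mem_span_singleton_self a₀)]
      refine Eq.trans ?_ (congr($((Scheme.ΓSpecIso_inv_naturality π)).hom a₀)).symm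
      simp only [CommRingCat.comp_apply, Scheme.Hom.appTop]
      refine Eq.trans (congrArg _ (congr($((Spec.map π).naturality (homOfLE (le_top : X.fromSpecStalk x₀ ⁻¹ᵁ W ≤ ⊤)).op).hom _))) ?_
      rw [CommRingCat.comp_apply]
      exact (ParaFLib.res_res (L := Coh.structureModule (Spec (CommRingCat.of (X.presheaf.stalk x₀ ⧸ Ideal.span {a₀})))) _ hgW _).trans
        (ParaFLib.res_self (M := Coh.structureModule (Spec (CommRingCat.of (X.presheaf.stalk x₀ ⧸ Ideal.span {a₀})))) _ _)
    have h2 := hzero g (pullMap_res_zero g L l a ha.symm hgW h1)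
    let res := X.residue x₀
    let φ := Scheme.descResidueField (X := X) (x := x₀) (Scheme.stalkClosedPointTo p)
    have hpe : Spec.map (res ≫ φ) ≫ X.fromSpecStalk x₀ = p := by
      rw [Spec.map_comp, Category.assoc, ← Scheme.fromSpecResidueField]
      exact Scheme.descResidueField_stalkClosedPointTo_fromSpecResidueField k X p
    let ψ := Spec.preimage (g ≫ (X ↘ Spec (CommRingCat.of k)))
    have h3 : π = (res ≫ φ) ≫ ψ := Spec.map_injective ((cancel_mono (X.fromSpecStalk x₀)).1 (by
      refine h2.trans ?_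
      rw [Spec.map_comp ((res ≫ φ)) ψ, Spec.map_preimage]
      exact (congrArg (fun t => (g ≫ (X ↘ Spec (CommRingCat.of k))) ≫ t) hpe.symm).trans (Category.assoc _ _ _).symm))
    intro r hr
    rw [← Ideal.Quotient.eq_zero_iff_mem]
    have h5 : res r = 0 := Ideal.Quotient.eq_zero_iff_mem.2 hr
    show π r = 0
    rw [h3, CommRingCat.comp_apply, CommRingCat.comp_apply, h5, map_zero, map_zero]
  refine (Submodule.finrank_mono (?_ : sectSpace k L e ≤ FunFld.L (Finsupp.single P (1 : ℤ)))).trans ?_
  · intro f hf Q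
    obtain ⟨x, hx, rfl⟩ := placeOf_surjective hdim Q
    by_cases hxx : x = x₀
    · subst hxx
      rw [Finsupp.single_eq_same]
      have hge : (algebraMap (X.presheaf.stalk x₀) X.functionField a₀ : X.presheaf.stalk (genericPoint X)) •
          L.presheaf.germ W (genericPoint X) (generic_mem hxW) l = e := by
        rw [← spec_germ L hxW (generic_mem hxW) l, ← spec_smul]
        show spec L x₀ _ = _
        rw [← germ_smul', ha, TopCat.Presheaf.germ_res_apply, spec_germ L (U := ⊤) trivial trivial]
      obtain ⟨c, hc⟩ := he.2 (L.presheaf.germ W (genericPoint X) (generic_mem hxW) l)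
      obtain ⟨r, hr⟩ := (CurveFF.inStalk_iff he hl hxW (a := c) hc.symm f).1 (hf x₀)
      have hca : algebraMap (X.presheaf.stalk x₀) X.functionField a₀ * (c : X.functionField) = 1 := by
        refine he.1 ?_
        show _ • e = (1 : X.presheaf.stalk (genericPoint X)) • e
        rw [one_smul, mul_smul]
        exact (congrArg _ hc).trans hge
      haveI := isDVR k hdim hx
      obtain ⟨π, hπ⟩ := (placeOf k hdim x₀ hx).2.2 (WithZero.exp (-1))
      obtain ⟨π', rfl⟩ := (placeOf_le_one_iff hdim hx π).1 (hπ.le.trans (by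
        rw [← WithZero.exp_zero, WithZero.exp_le_exp]; norm_num))
      have hπm : π' ∈ IsLocalRing.maximalIdeal (X.presheaf.stalk x₀) := by
        refine (IsDedekindDomain.HeightOneSpectrum.valuation_lt_one_iff_mem (K := X.functionField)
          (IsDiscreteValuationRing.maximalIdeal (X.presheaf.stalk x₀)) π').1 (lt_of_eq_of_lt hπ ?_)
        rw [← WithZero.exp_zero, WithZero.exp_lt_exp]; norm_num
      obtain ⟨t, rfl⟩ := Ideal.mem_span_singleton.1 (hm hπm)
      have ht := (placeOf_le_one_iff (k := k) hdim hx (algebraMap (X.presheaf.stalk x₀) X.functionField t)).2 ⟨t, rfl⟩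
      have hr' := (placeOf_le_one_iff (k := k) hdim hx (algebraMap (X.presheaf.stalk x₀) X.functionField r)).2 ⟨r, rfl⟩
      have hval : (placeOf k hdim x₀ hx).1 (c : X.functionField) ≤ WithZero.exp 1 := by
        have h6 := congrArg (placeOf k hdim x₀ hx).1 hca
        rw [map_one, map_mul] at h6
        rw [map_mul, map_mul] at hπ
        calc (placeOf k hdim x₀ hx).1 (c : X.functionField)
            = (placeOf k hdim x₀ hx).1 (c : X.functionField) * ((placeOf k hdim x₀ hx).1 (algebraMap (X.presheaf.stalk x₀) X.functionField a₀) *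
                (placeOf k hdim x₀ hx).1 (algebraMap (X.presheaf.stalk x₀) X.functionField t)) * WithZero.exp 1 := by
              rw [hπ, mul_assoc, ← WithZero.exp_add]; simp
          _ = (placeOf k hdim x₀ hx).1 (algebraMap (X.presheaf.stalk x₀) X.functionField t) * WithZero.exp 1 := by
              rw [← mul_assoc ((placeOf k hdim x₀ hx).1 (c : X.functionField)),
                mul_comm ((placeOf k hdim x₀ hx).1 (c : X.functionField)), h6, one_mul]
          _ ≤ 1 * WithZero.exp 1 := mul_le_mul' ht le_rfl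
          _ = WithZero.exp 1 := one_mul _
      rw [← hr, map_mul]
      exact (mul_le_mul' hr' hval).trans (one_mul _).le
    · have hne' : placeOf k hdim x hx ≠ P := fun h => hxx (placeOf_injective hdim hx hx₀ h)
      rw [Finsupp.single_eq_of_ne hne', WithZero.exp_zero, placeOf_le_one_iff]
      obtain ⟨z, hz⟩ := hf x
      obtain ⟨r, rfl⟩ := (hgen x hxx).2 z
      refine ⟨r, he.1 ?_⟩
      show _ • e = _ • e
      rw [← hz, spec_smul, spec_germ L (U := ⊤) trivial trivial]
  · refine (ell_single_le hdim h0 hg P).trans ?_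
    letI := Curv2.resAlgebra k X x₀
    rw [deg_placeOf hdim hx₀]
    have hb : Function.Bijective (algebraMap k (X.residueField x₀)) := resMap_bijective_of_section p hp
    exact le_of_eq ((LinearEquiv.ofBijective (Algebra.linearMap k (X.residueField x₀)) hb).finrank_eq.symm.trans
      (Module.finrank_self k))

end Groth.Agent.AbelMapLib
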