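import Groth.Agent.GenSeesawLib.PushTriv
import Groth.Agent.CurveLib.SmulPow

/-!
# A section which is the only one on every fibre is the only one
-/

set_option autoImplicit false
set_option backward.isDefEq.respectTransparency false
set_option backward.isDefEq.respectTransparency.types false
set_option linter.style.haveILetI false
set_option maxHeartbeats 1600000

universe u

open CategoryTheory CategoryTheory.Limits AlgebraicGeometry TopologicalSpace Opposite
open Groth.Agent.PullbackMod Groth.Agent.ParaFLib Groth.Agent.AmpleLib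

noncomputable section

namespace Groth.Agent.AbelMapLib

theorem exists_smul_eq_of_finrank_one {k : Type u} [Field k] {F : Scheme.{u}} [F.Over (Spec (CommRingCat.of k))]
    {N : F.Modules} (h : Module.finrank k (Coh.HH F N 0) = 1) {x : Γ(N, ⊤)} (hx : x ≠ 0) (y : Γ(N, ⊤)) :
    ∃ c : k, (show Γ(F, ⊤) from Coh.toGlobal (F ↘ Spec (CommRingCat.of k)) c) • x = y := by
  have hx' : (CurveLib.secOf N).symm x ≠ 0 := fun e => hx (by
    rw [← (CurveLib.secOf N).apply_symm_apply x, e, map_zero])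
  obtain ⟨c, hc⟩ := (finrank_eq_one_iff_of_nonzero' _ hx').1 h ((CurveLib.secOf N).symm y)
  refine ⟨c, ?_⟩
  have := congrArg (CurveLib.secOf N) hc
  rw [CurveLib.secOf_smul, AddEquiv.apply_symm_apply, AddEquiv.apply_symm_apply] at this
  exact this

/-- All sections are multiples of one which is nonzero on every fibre, when the fibres have one section only. -/
theorem exists_smul_of_rank_one {X T : Scheme.{u}} (f : X ⟶ T) [IsProper f] [LocallyOfFinitePresentation f] [Flat f]
    {L : X.Modules} (hL : PicF.IsInvertible L) (σ : Γ(L, ⊤)) (hrk : ∀ t, CohIII.fiberRank f L 0 t = 1)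
    (hne : ∀ t, pullMap (f.fiberι t) L (fun _ _ => trivial : (⊤ : (f.fiber t).Opens) ≤ f.fiberι t ⁻¹ᵁ ⊤) σ ≠ 0)
    (τ : Γ(L, ⊤)) : ∃ r : Γ(T, ⊤), f.app ⊤ r • (show Γ(L, f ⁻¹ᵁ ⊤) from σ) = τ := by
  obtain ⟨hq, hfp⟩ := isQCoh_and_isFP_of_isFinLocFree L (CurveLib.isFinLocFree_of_isInvertible hL)
  haveI := hq
  let M := (Scheme.Modules.pushforward f).obj L
  haveI : Coh.IsQCoh M := QCohLib.isQCoh_pushforward L f
  have hsurj : ∀ t, Function.Surjective ((CohBC.bc0 f (T.fromSpecResidueField t) (f.fiberToSpecResidueField t) (f.fiberι t)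
      (f.fiber_fac t) L).app ⊤) := by
    intro t v
    letI : (f.fiber t).Over (Spec (CommRingCat.of (T.residueField t))) := ⟨f.fiberToSpecResidueField t⟩
    obtain ⟨c, hc⟩ := exists_smul_eq_of_finrank_one (k := T.residueField t) (F := f.fiber t)
      (N := (Scheme.Modules.pullback (f.fiberι t)).obj L) (hrk t) (hne t) v
    refine ⟨(Scheme.ΓSpecIso (T.residueField t)).inv c • pullMap (T.fromSpecResidueField t) M
      (fun _ _ => trivial : (⊤ : (Spec (T.residueField t)).Opens) ≤ T.fromSpecResidueField t ⁻¹ᵁ ⊤) (show Γ(M, ⊤) from σ), ?_⟩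
    rw [Scheme.Modules.Hom.app_smul, GenBCLib.bc0_pullMap (f.fiber_fac t) L (V := ⊤) (fun _ _ => trivial) (fun _ _ => trivial) σ]
    exact hc
  have hpt : ∀ t, GenBCLib.PtGood f L 1 t := by
    intro t
    obtain ⟨V, D, htV⟩ :=
      GenBCLib.exists_dat_at hfp (TildePerf.isFlatOver_of_isFinLocFree f (CurveLib.isFinLocFree_of_isInvertible hL)) t
    obtain ⟨a, ha, hg⟩ := D.exists_good htV
      ((D.epi_bc0_iff_surjAt htV).1 (GenBCLib.epi_of_surjective_top _ (hsurj t)))
    refine ⟨⟨V, D, a, ha, hg⟩, ?_⟩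
    rw [← hrk t]
    exact D.freeAt_of_good ha hg
  have hM : PicF.IsInvertible M := VBLib.isInvertible_of_rank (GenBCLib.isFinLocFreeOfRank_of_ptGood 1 hpt)
  have hgen : Gen (L := M) ⊤ (show Γ(M, ⊤) from σ) := by
    refine AmpleLib.gen_of_germ fun t _ => ?_
    obtain ⟨W, e, htW, he⟩ := ParaFLib.exists_gen_nhd hM t
    obtain ⟨a, ha⟩ := (he W le_rfl).2 (M.presheaf.map (homOfLE le_top).op (show Γ(M, ⊤) from σ))
    simp only [ParaFLib.res_self] at ha
    rw [← TopCat.Presheaf.germ_res_apply M.presheaf (homOfLE (le_top : W ≤ ⊤)) t htW (show Γ(M, ⊤) from σ),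
      ← ha, germ_smul']
    refine (AmpleLib.bijective_smul_iff (he.bijective_germ t htW) _).2 ?_
    by_contra hu
    obtain ⟨_, ⟨V : T.Opens, (hV : IsAffineOpen V), rfl⟩, htV, hVW⟩ :=
      T.isBasis_affineOpens.exists_subset_of_mem_open htW W.2
    let g := T.fromSpecResidueField t
    have hgV : (⊤ : (Spec (T.residueField t)).Opens) ≤ g ⁻¹ᵁ V := GenBCLib.le_preimage_fromSpecResidueField htV
    have h1 : pullMap g M hgV (M.presheaf.map (homOfLE le_top).op (show Γ(M, ⊤) from σ)) = 0 := by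
      have h2 := congrArg (M.presheaf.map (homOfLE (show V ≤ W from hVW)).op) ha
      rw [M.map_smul, ParaFLib.res_res] at h2
      rw [← h2, pullMap_smul, GenBCLib.appLE_fromSpecResidueField htV hV, CommRingCat.comp_apply,
        (T.evaluation_eq_zero_iff_notMem_basicOpen t htV _).2 (fun h => hu ?_), map_zero, zero_smul]
      rw [Scheme.basicOpen_res] at h
      exact (T.mem_basicOpen a t htW).1 h.2
    have e1 := pullMap_res g M (fun _ _ => trivial : (⊤ : (Spec (T.residueField t)).Opens) ≤ g ⁻¹ᵁ ⊤)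
      (le_top : V ≤ ⊤) (le_refl _) hgV (show Γ(M, ⊤) from σ)
    rw [ParaFLib.res_self] at e1
    have h3 := congrArg ((CohBC.bc0 f g (f.fiberToSpecResidueField t) (f.fiberι t) (f.fiber_fac t) L).app ⊤)
      (e1.trans h1)
    rw [GenBCLib.bc0_pullMap (f.fiber_fac t) L (V := ⊤) (fun _ _ => trivial) (fun _ _ => trivial) σ, map_zero] at h3
    exact hne t h3
  obtain ⟨r, hr⟩ := (hgen ⊤ le_rfl).2 (show Γ(M, ⊤) from τ)
  rw [ParaFLib.res_self] at hr
  exact ⟨r, hr⟩

end Groth.Agent.AbelMapLib
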