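import Groth.Agent.AbelMapLib.CanSect
import Groth.Agent.AbelMapLib.PointCurve
import Groth.Agent.AbelMapLib.RankOne
import Groth.Agent.PicCurveSmoothLib.BaseChange
import Groth.Agent.InvDescLib.RelPic
import Groth.Agent.BCLib.Local
import Groth.Agent.GenBCLib.PullOn
import Groth.Agent.ASt.DiagConv
import Groth.Agent.CurveFF.Count
import Groth.Agent.S9777

/-!
# The Abel map of a curve of positive genus is a closed immersion
-/

set_option autoImplicit false
set_option backward.isDefEq.respectTransparency false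
set_option backward.isDefEq.respectTransparency.types false
set_option linter.style.haveILetI false
set_option maxHeartbeats 1600000

universe u

open CategoryTheory CategoryTheory.Limits AlgebraicGeometry TopologicalSpace Opposite
open Groth.Agent.PullbackMod Groth.Agent.ParaFLib

noncomputable section

namespace Groth.Agent.AbelMapLib

theorem pullMap_comp_eq_zero_iff {X Y Z : Scheme.{u}} (g : X ⟶ Y) (h : Y ⟶ Z) (M : Z.Modules) (s : Γ(M, ⊤)) :
    pullMap g _ (fun _ _ => trivial : (⊤ : X.Opens) ≤ g ⁻¹ᵁ ⊤)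
        (pullMap h M (fun _ _ => trivial : (⊤ : Y.Opens) ≤ h ⁻¹ᵁ ⊤) s) = 0 ↔
      pullMap (g ≫ h) M (fun _ _ => trivial : (⊤ : X.Opens) ≤ (g ≫ h) ⁻¹ᵁ ⊤) s = 0 := by
  rw [← GenBCLib.pullMap_comp g h M (fun _ _ => trivial : (⊤ : Y.Opens) ≤ h ⁻¹ᵁ ⊤)
    (fun _ _ => trivial : (⊤ : X.Opens) ≤ g ⁻¹ᵁ ⊤) (fun _ _ => trivial : (⊤ : X.Opens) ≤ (g ≫ h) ⁻¹ᵁ ⊤) s]
  exact (map_eq_zero_iff _ (ConcreteCategory.bijective_of_isIso
    (((Scheme.Modules.pullbackComp g h).hom.app M).app ⊤)).1).symm

variable {C S : Scheme.{u}} {f : C ⟶ S}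

theorem factors_diagonal_iff [IsSeparated f] {Z : Scheme.{u}} (g : Z ⟶ pullback f f) :
    (∃ k : Z ⟶ (pullback.diagonal f).ker.subscheme, k ≫ (pullback.diagonal f).ker.subschemeι = g) ↔
      g ≫ pullback.fst f f = g ≫ pullback.snd f f := by
  have hι : (pullback.diagonal f).toImage ≫ (pullback.diagonal f).ker.subschemeι = pullback.diagonal f :=
    (pullback.diagonal f).toImage_imageι
  constructor
  · rintro ⟨k, rfl⟩
    rw [Category.assoc, Category.assoc]
    congr 1
    haveI : IsIso (pullback.diagonal f).toImage := inferInstance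
    rw [← cancel_epi (pullback.diagonal f).toImage, ← Category.assoc, ← Category.assoc, hι, pullback.diagonal_fst,
      pullback.diagonal_snd]
  · intro h
    refine ⟨(g ≫ pullback.fst f f) ≫ (pullback.diagonal f).toImage, ?_⟩
    rw [Category.assoc, hι]
    apply pullback.hom_ext
    · simp [Category.assoc]
    · simp only [Category.assoc, pullback.diagonal_snd, Category.comp_id]
      exact h

/-- The canonical section dies exactly along the diagonal. -/
theorem pullMap_eq_zero_iff_eq [IsSeparated f] {L : (pullback f f).Modules} (hL : PicF.IsInvertible L) {s : Γ(L, ⊤)}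
    (hs : IsCanSect (pullback.diagonal f).ker L s) {Z : Scheme.{u}} (g : Z ⟶ pullback f f) :
    pullMap g L (fun _ _ => trivial : (⊤ : Z.Opens) ≤ g ⁻¹ᵁ ⊤) s = 0 ↔
      g ≫ pullback.fst f f = g ≫ pullback.snd f f :=
  (pullMap_eq_zero_iff _ hL hs g).trans (factors_diagonal_iff g)

/-- Two points with the same class are equal. -/
theorem eq_of_iso [IsProper f] [Smooth f] [GeometricallyConnected f]
    (hdim : ∀ s : S, topologicalKrullDim ↥(f.fiber s) = 1)
    (hg : ∀ s : S, 1 ≤ CohIII.fiberRank f (Coh.structureModule C) 1 s)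
    {L : (PicF.XT f (Over.mk f)).Modules} (hL : PicF.IsInvertible L) {s : Γ(L, ⊤)}
    (hs : IsCanSect (pullback.diagonal f).ker L s) {T : Over S} (gx gy : T ⟶ Over.mk f)
    (θ : (Scheme.Modules.pullback (PicF.XTmap f gx)).obj L ≅ (Scheme.Modules.pullback (PicF.XTmap f gy)).obj L) :
    gx = gy := by
  let π := PicF.XTproj f T
  let my := PicF.XTmap f gy
  let mx := PicF.XTmap f gx
  let Ly := (Scheme.Modules.pullback my).obj L
  let σy : Γ(Ly, ⊤) := pullMap my L (fun _ _ => trivial : (⊤ : (PicF.XT f T).Opens) ≤ my ⁻¹ᵁ ⊤) s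
  let σx := pullMap mx L (fun _ _ => trivial : (⊤ : (PicF.XT f T).Opens) ≤ mx ⁻¹ᵁ ⊤) s
  have hLy : PicF.IsInvertible Ly := AmpleLib.isInvertible_pullback my hL
  haveI : IsProper π := MorphismProperty.pullback_snd _ _ inferInstance
  haveI : Smooth π := MorphismProperty.pullback_snd _ _ inferInstance
  haveI : GeometricallyConnected π := MorphismProperty.pullback_snd _ _ inferInstance
  have hfst : ∀ g : T ⟶ Over.mk f, PicF.XTmap f g ≫ pullback.fst f f = pullback.fst f T.hom := fun g => by
    simp [PicF.XTmap, pullback.map]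
  have hsnd : ∀ g : T ⟶ Over.mk f, PicF.XTmap f g ≫ pullback.snd f f = π ≫ g.left := fun g => by
    simp [PicF.XTmap, pullback.map, π, PicF.XTproj]
  have hfib : ∀ t, CohIII.fiberRank π Ly 0 t = 1 ∧
      pullMap (π.fiberι t) Ly (fun _ _ => trivial : (⊤ : (π.fiber t).Opens) ≤ π.fiberι t ⁻¹ᵁ ⊤) σy ≠ 0 := by
    intro t
    let F := π.fiber t
    let κ := T.left.residueField t
    letI : F.Over (Spec (CommRingCat.of κ)) := ⟨π.fiberToSpecResidueField t⟩
    haveI : IsProper (F ↘ Spec (CommRingCat.of κ)) := MorphismProperty.pullback_snd π (T.left.fromSpecResidueField t) inferInstance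
    haveI : Smooth (F ↘ Spec (CommRingCat.of κ)) := MorphismProperty.pullback_snd π (T.left.fromSpecResidueField t) inferInstance
    haveI : GeometricallyConnected (F ↘ Spec (CommRingCat.of κ)) :=
      MorphismProperty.pullback_snd π (T.left.fromSpecResidueField t) inferInstance
    haveI : ConnectedSpace F := GeometricallyConnected.connectedSpace (F ↘ Spec (CommRingCat.of κ)) (F ↘ Spec (CommRingCat.of κ)).isOpenMap
    haveI : IsIntegral F := CurveLib.isIntegral_of_smooth κ
    haveI := AVLib.geometricallyReduced_of_smooth (F ↘ Spec (CommRingCat.of κ))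
    have hd : topologicalKrullDim F = 1 :=
      (Groth.Agent.S9777.result f _ π (pullback.fst f T.hom) (IsPullback.of_hasPullback f T.hom) t).trans (hdim _)
    haveI : VBLib.IsRegCurve F := VBLib.isRegCurve_of_smooth κ hd.le
    have h0 : Module.finrank κ (Coh.HH F (Coh.structureModule F) 0) = 1 := Groth.Agent.S1536.result κ F
    have hgen : 1 ≤ Curv2.genus κ F := by
      haveI : Coh.IsQCoh (Coh.structureModule C) := CohBase.isQCoh_structureModule
      have h1 := BCLib.fiberRank_baseChange (IsPullback.of_hasPullback f T.hom) (Coh.structureModule C) 1 t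
      refine (hg (T.hom t)).trans (le_of_eq (h1.symm.trans ?_))
      exact (BCLib.hhEquivL (A := κ) ((Scheme.Modules.pullback (π.fiberι t)).mapIso (AmpleLib.pullO (pullback.fst f T.hom)) ≪≫
        AmpleLib.pullO (π.fiberι t)) 1).finrank_eq
    have hw : π.fiberι t ≫ π = (F ↘ Spec (CommRingCat.of κ)) ≫ T.left.fromSpecResidueField t := π.fiber_fac t
    let p : Spec (CommRingCat.of κ) ⟶ F := pullback.lift
      (pullback.lift (T.left.fromSpecResidueField t ≫ gy.left) (T.left.fromSpecResidueField t) (by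
        rw [Category.assoc]
        exact congrArg (T.left.fromSpecResidueField t ≫ ·) (Over.w gy)))
      (𝟙 _) (by
        rw [Category.id_comp]
        exact pullback.lift_snd _ _ _)
    have hp : p ≫ (F ↘ Spec (CommRingCat.of κ)) = 𝟙 _ := pullback.lift_snd _ _ _
    have hzero : ∀ {Z : Scheme.{u}} (g : Z ⟶ F),
        pullMap g _ (fun _ _ => trivial : (⊤ : Z.Opens) ≤ g ⁻¹ᵁ ⊤)
          (pullMap (π.fiberι t) Ly (fun _ _ => trivial : (⊤ : F.Opens) ≤ π.fiberι t ⁻¹ᵁ ⊤) σy) = 0 →
        g = (g ≫ (F ↘ Spec (CommRingCat.of κ))) ≫ p := by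
      intro Z g h
      have h' : pullMap ((g ≫ π.fiberι t) ≫ my) L (fun _ _ => trivial : (⊤ : Z.Opens) ≤ ((g ≫ π.fiberι t) ≫ my) ⁻¹ᵁ ⊤) s = 0 :=
        (pullMap_comp_eq_zero_iff (g ≫ π.fiberι t) my L s).1 ((pullMap_comp_eq_zero_iff g (π.fiberι t) Ly σy).1 h)
      have h'' := (pullMap_eq_zero_iff_eq hL hs _).1 h'
      simp only [Category.assoc, my, hfst, hsnd] at h''
      apply pullback.hom_ext
      · apply pullback.hom_ext
        · simp only [p, Category.assoc, pullback.lift_fst]
          refine h''.trans ?_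
          exact congrArg (g ≫ ·) ((Category.assoc _ _ _).symm.trans
            ((congrArg (· ≫ gy.left) hw).trans (Category.assoc _ _ _)))
        · simp only [p, Category.assoc, pullback.lift_fst, pullback.lift_snd]
          exact congrArg (g ≫ ·) hw
      · simp only [Category.assoc]
        rw [show p ≫ pullback.snd π (T.left.fromSpecResidueField t) = 𝟙 _ from hp, Category.comp_id]
        rfl
    have hLF := AmpleLib.isInvertible_pullback (π.fiberι t) hLy
    have hne : pullMap (π.fiberι t) Ly (fun _ _ => trivial : (⊤ : F.Opens) ≤ π.fiberι t ⁻¹ᵁ ⊤) σy ≠ 0 := by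
      intro h
      have h1 := hzero (𝟙 F) (by rw [h, map_zero])
      rw [Category.id_comp] at h1
      haveI : IsIso (F ↘ Spec (CommRingCat.of κ)) := ⟨p, h1.symm, hp⟩
      haveI : Subsingleton ↥(Spec (CommRingCat.of κ)) := inferInstanceAs (Subsingleton (PrimeSpectrum κ))
      haveI : Subsingleton F := (F ↘ Spec (CommRingCat.of κ)).homeomorph.injective.subsingleton
      haveI : Subsingleton (IrreducibleCloseds F) := ⟨fun A B => by
        obtain ⟨a, ha⟩ := A.isIrreducible.nonempty
        obtain ⟨b, hb⟩ := B.isIrreducible.nonempty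
        ext z
        exact ⟨fun _ => by rw [Subsingleton.elim z b]; exact hb, fun _ => by rw [Subsingleton.elim z a]; exact ha⟩⟩
      have h2 : topologicalKrullDim F ≤ 0 := Order.krullDim_nonpos_of_subsingleton
      rw [hd] at h2
      exact absurd h2 (by norm_num)
    refine ⟨?_, hne⟩
    haveI := EulerIneqLib.isNoetherian_proper (X := F) κ
    haveI := EulerIneqLib.finite_HH (k := κ) (CurveLib.isCoh_of_isInvertible hLF) 0
    haveI : Nontrivial (Coh.HH F ((Scheme.Modules.pullback (π.fiberι t)).obj Ly) 0) :=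
      ⟨⟨(CurveLib.secOf _).symm (pullMap (π.fiberι t) Ly (fun _ _ => trivial : (⊤ : F.Opens) ≤ π.fiberι t ⁻¹ᵁ ⊤) σy), 0,
        fun h => hne ((CurveLib.secOf _).symm.injective (h.trans (map_zero _).symm))⟩⟩
    exact le_antisymm (finrank_H0_le_one_of_point hd h0 hgen p hp hLF _ hzero) Module.finrank_pos
  obtain ⟨r, hr⟩ := exists_smul_of_rank_one π hLy σy (fun t => (hfib t).1) (fun t => (hfib t).2) (θ.hom.app ⊤ σx)
  let z : T.left ⟶ PicF.XT f T := pullback.lift gy.left (𝟙 _) (by rw [Category.id_comp]; exact Over.w gy)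
  have hz1 : z ≫ pullback.fst f T.hom = gy.left := pullback.lift_fst _ _ _
  have hz2 : z ≫ π = 𝟙 _ := pullback.lift_snd _ _ _
  have hzy : pullMap z Ly (fun _ _ => trivial : (⊤ : T.left.Opens) ≤ z ⁻¹ᵁ ⊤) σy = 0 := by
    refine (pullMap_comp_eq_zero_iff z my L s).2 ((pullMap_eq_zero_iff_eq hL hs _).2 ?_)
    rw [Category.assoc, Category.assoc, hfst, hsnd, hz1, ← Category.assoc, hz2, Category.id_comp]
  have hzx : pullMap z _ (fun _ _ => trivial : (⊤ : T.left.Opens) ≤ z ⁻¹ᵁ ⊤) σx = 0 := by
    refine (map_eq_zero_iff _ (ConcreteCategory.bijective_of_isIso (((Scheme.Modules.pullback z).map θ.hom).app ⊤)).1).1 ?_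
    rw [pullMap_natural, ← hr]
    refine (pullMap_smul z Ly _ (π.app ⊤ r) σy).trans ?_
    exact (congrArg (_ • ·) hzy).trans (smul_zero _)
  have h := (pullMap_eq_zero_iff_eq hL hs _).1 ((pullMap_comp_eq_zero_iff z mx L s).1 hzx)
  rw [Category.assoc, Category.assoc, hfst, hsnd, hz1, ← Category.assoc, hz2, Category.id_comp] at h
  exact Over.OverMorphism.ext h.symm

/-- The Abel map is a closed immersion. -/
theorem isClosedImmersion_abel [IsProper f] [Smooth f] [GeometricallyConnected f]
    (hdim : ∀ s : S, topologicalKrullDim ↥(f.fiber s) = 1)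
    (hg : ∀ s : S, 1 ≤ CohIII.fiberRank f (Coh.structureModule C) 1 s)
    (P : Over S) (φ : ∀ T : Over S, PicF.Cl (PicF.XT f T) → (T ⟶ P))
    (hP : AbDual.IsRelPicK Scheme.fppfPrecoverage f P φ) [IsSeparated P.hom]
    {L : (PicF.XT f (Over.mk f)).Modules} (hL : PicF.IsInvertible L)
    (e : CohB1.tensorMod L (ClSub.idealMod (pullback.diagonal f).ker) ≅ Coh.structureModule _) :
    IsClosedImmersion (φ (Over.mk f) (PicF.cl L)).left := by
  let a := φ (Over.mk f) (PicF.cl L)
  obtain ⟨s, hs⟩ := exists_canSect _ hL (AmpleLib.isInvertible_of_tensor_iso (AmpleLib.comm _ _ ≪≫ e)) e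
  have ha : a.left ≫ P.hom = f := Over.w a
  haveI : IsProper (a.left ≫ P.hom) := by rw [ha]; infer_instance
  haveI : IsProper a.left := IsProper.of_comp a.left P.hom
  haveI : Mono a.left := ⟨fun {Z} x y h => by
    have hxy : x ≫ f = y ≫ f := by rw [← ha, ← Category.assoc, h, Category.assoc]
    let T : Over S := Over.mk (x ≫ f)
    let gx : T ⟶ Over.mk f := Over.homMk x rfl
    let gy : T ⟶ Over.mk f := Over.homMk y hxy.symm
    have hc : PicF.IsInvertibleCl (PicF.cl L) := ⟨L, rfl, hL⟩
    have he : φ T (PicF.pullCl (PicF.XTmap f gx) (PicF.cl L)) = φ T (PicF.pullCl (PicF.XTmap f gy) (PicF.cl L)) := by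
      rw [hP.natural _ T gx _ hc, hP.natural _ T gy _ hc]
      exact Over.OverMorphism.ext h
    obtain ⟨R, hR, hR'⟩ := hP.locallyInjective T _ _ (PicCurveSmoothLib.isInvertibleCl_pullCl _ hc)
      (PicCurveSmoothLib.isInvertibleCl_pullCl _ hc) he
    obtain ⟨ι, W, v, hv, hfl, hlfp, hsurj⟩ := InvDescLib.exists_small_cover hR
    haveI := hfl; haveI := hlfp; haveI := hsurj
    haveI : EffectiveEpi (Sigma.desc v) := inferInstance
    show x = y
    rw [← cancel_epi (Sigma.desc v)]
    refine Sigma.hom_ext _ _ fun i => ?_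
    rw [← Category.assoc, ← Category.assoc, Sigma.ι_desc]
    have h1 := hR' (v i) (hv i)
    rw [PicCurveSmoothLib.pullCl_pullCl, PicCurveSmoothLib.pullCl_pullCl, AbDualLib.XTmap_comp (X := Over.mk f),
      AbDualLib.XTmap_comp (X := Over.mk f)] at h1
    obtain ⟨θ⟩ := AbDualLib.nonempty_iso_of_cl_eq h1
    exact congrArg CommaMorphism.left (eq_of_iso hdim hg hL hs (AbDual.ovrHom T (v i) ≫ gx) (AbDual.ovrHom T (v i) ≫ gy) θ)⟩
  haveI : LocallyOfFiniteType a.left := inferInstance
  exact ASt.isClosedImmersion_of_univClosed_mono a.left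

end Groth.Agent.AbelMapLib
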